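import Cfsg.Agent.H900.Four.Odd
import Cfsg.Agent.H900.Four.Even
import Cfsg.Agent.H164.SR.OddRows

/-!
# S4171 (four involutions): the orthogonal rows

* `i4_poodd`, `i4_poplus`, `i4_pominus`.
-/

set_option autoImplicit false

namespace Cfsg.Agent.H900.Four

open QuadraticMap Module
open Cfsg.Agent.LieClassical.OrthCore Cfsg.Agent.LieClassical.OrthFinite Cfsg.Agent.LieClassical.OrthForms
open Cfsg.Agent.H160.QSpin Cfsg.Agent.H160.QDisc Cfsg.Agent.H160.QFinal Cfsg.Agent.H146.Inv4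

/-- quotient by the centre -/
theorem i4_quot {G : Type*} [Group G] (h : I4 G) : I4 (G ⧸ Subgroup.center G) := by
  intro x
  obtain ⟨g, rfl⟩ := QuotientGroup.mk'_surjective (Subgroup.center G) x
  obtain ⟨t1, t2, t3, t4, h1, h2, h3, h4, rfl⟩ := h g
  refine ⟨QuotientGroup.mk' _ t1, QuotientGroup.mk' _ t2, QuotientGroup.mk' _ t3, QuotientGroup.mk' _ t4,
    ?_, ?_, ?_, ?_, ?_⟩
  · rw [← map_mul, h1, map_one]
  · rw [← map_mul, h2, map_one]
  · rw [← map_mul, h3, map_one]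
  · rw [← map_mul, h4, map_one]
  · rw [map_mul, map_mul, map_mul]

/-- `Ω(Q)`, `q` odd -/
theorem i4_omega_odd {F : Type} [Field F] [Finite F] {ι : Type} [Fintype ι] [DecidableEq ι] (h2 : (2 : F) ≠ 0)
    {Q : QuadraticForm F (ι → F)} (hQ : Nondeg Q) (hd : 7 ≤ Fintype.card ι) : I4 (Cfsg.Omega F ⇑Q) := by
  intro x
  have hx := el_lin h2 hQ (by omega) x
  obtain ⟨t1, k1, t2, k2, t3, k3, t4, k4, e1, e2, e3, e4, e⟩ :=
    p4_odd h2 hQ (by rw [Module.finrank_fintype_fun_eq_card]; exact hd) ⟨lin Q x, hx.1⟩ ((mem_ker_chi hx.1).2 hx)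
  have lift : ∀ t : O Q, t ∈ (chi Q).ker → ∃ y : Cfsg.Omega F ⇑Q, lin Q y = t := fun t ht =>
    exists_lin h2 hQ (by omega) ((mem_ker_chi t.2).1 ht)
  obtain ⟨y1, h1⟩ := lift t1 k1
  obtain ⟨y2, h2'⟩ := lift t2 k2
  obtain ⟨y3, h3⟩ := lift t3 k3
  obtain ⟨y4, h4⟩ := lift t4 k4
  refine ⟨y1, y2, y3, y4, lin_injective Q ?_, lin_injective Q ?_, lin_injective Q ?_, lin_injective Q ?_,
    lin_injective Q ?_⟩
  · rw [map_mul, map_one, h1]; exact congrArg Subtype.val e1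
  · rw [map_mul, map_one, h2']; exact congrArg Subtype.val e2
  · rw [map_mul, map_one, h3]; exact congrArg Subtype.val e3
  · rw [map_mul, map_one, h4]; exact congrArg Subtype.val e4
  · rw [map_mul, map_mul, map_mul, h1, h2', h3, h4]; exact congrArg Subtype.val e

/-- `PΩ_{2m+1}(q)`, `q` odd -/
theorem i4_odd {F : Type} [Field F] [Finite F] (h2 : (2 : F) ≠ 0) {m : ℕ} (hm : 3 ≤ m) :
    I4 (Cfsg.POmega F (Cfsg.quadFormOdd m F)) := by
  rw [← coe_oddForm m F]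
  exact i4_quot (i4_omega_odd h2 (nondeg_oddForm m F h2) (by simp; omega))

theorem i4_plus_odd {F : Type} [Field F] [Finite F] (h2 : (2 : F) ≠ 0) {m : ℕ} (hm : 4 ≤ m) :
    I4 (Cfsg.POmega F (Cfsg.quadFormPlus m F)) := by
  rw [← coe_plusForm m F]
  exact i4_quot (i4_omega_odd h2 (nondeg_plusForm m F) (by simp; omega))

theorem i4_minus_odd {F : Type} [Field F] [Finite F] (h2 : (2 : F) ≠ 0) {m : ℕ} (hm : 3 ≤ m) {a b : F}
    (hab : ∀ z₁ z₂ : F, z₁ ^ 2 + a * z₁ * z₂ + b * z₂ ^ 2 = 0 → z₁ = 0 ∧ z₂ = 0) :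
    I4 (Cfsg.POmega F (Cfsg.quadFormMinus m F a b)) := by
  rw [← coe_minusForm m F]
  exact i4_quot (i4_omega_odd h2 (nondeg_minusForm m F a b hab) (by simp; omega))

theorem i4_plus_even {F : Type} [Field F] [Finite F] [CharP F 2] {m : ℕ} (hm : 4 ≤ m) :
    I4 (Cfsg.POmega F (Cfsg.quadFormPlus m F)) := by
  rcases Nat.even_or_odd m with he | ho
  · obtain ⟨n, rfl⟩ := even_iff_two_dvd.1 he
    exact I4.of_sr fun g => Cfsg.Agent.H84.SREven.sr_plus (by omega) g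
  · rw [← coe_plusForm m F]
    exact i4_quot (i4_omega_even _ (nondeg_plusForm m F) (n := m) (by simp; omega) (by omega) ho)

theorem i4_minus_even {F : Type} [Field F] [Finite F] [CharP F 2] {m : ℕ} (hm : 4 ≤ m) {a b : F}
    (hab : ∀ z₁ z₂ : F, z₁ ^ 2 + a * z₁ * z₂ + b * z₂ ^ 2 = 0 → z₁ = 0 ∧ z₂ = 0) :
    I4 (Cfsg.POmega F (Cfsg.quadFormMinus (m - 1) F a b)) := by
  rcases Nat.even_or_odd m with he | ho
  · obtain ⟨n, rfl⟩ := even_iff_two_dvd.1 he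
    exact I4.of_sr fun g => Cfsg.Agent.H84.SREven.sr_minus (by omega) hab g
  · rw [← coe_minusForm (m - 1) F]
    exact i4_quot (i4_omega_even _ (nondeg_minusForm (m - 1) F a b hab) (n := m)
      (by simp; omega) (by omega) ho)

/-- **`PΩ_{2m+1}(q)`** -/
theorem i4_poodd {G : Type*} [Group G] (h : Cfsg.IsPOmegaOdd G) : I4 G := by
  classical
  obtain ⟨F, _, _, m, hm, hF, ⟨e⟩⟩ := h
  exact I4.congr e.symm (i4_odd (Cfsg.Agent.H164.SRO.two_ne hF) hm)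

/-- **`PΩ⁺_{2m}(q)`** -/
theorem i4_poplus {G : Type*} [Group G] (h : Cfsg.IsPOmegaPlus G) : I4 G := by
  obtain ⟨F, _, _, m, hm, ⟨e⟩⟩ := h
  refine I4.congr e.symm ?_
  by_cases h2 : (2 : F) = 0
  · have : CharP F 2 := CharTwo.of_one_ne_zero_of_two_eq_zero one_ne_zero h2
    exact i4_plus_even hm
  · exact i4_plus_odd h2 hm

/-- **`PΩ⁻_{2m}(q)`** -/
theorem i4_pominus {G : Type*} [Group G] (h : Cfsg.IsPOmegaMinus G) : I4 G := by
  obtain ⟨F, _, _, m, a, b, hm, hab, ⟨e⟩⟩ := h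
  refine I4.congr e.symm ?_
  by_cases h2 : (2 : F) = 0
  · have : CharP F 2 := CharTwo.of_one_ne_zero_of_two_eq_zero one_ne_zero h2
    exact i4_minus_even hm hab
  · exact i4_minus_odd h2 (by omega) hab

end Cfsg.Agent.H900.Four
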