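import Mathlib
import Cfsg.Agent.H749.QuadSplit
import Cfsg.Agent.H160.QDisc

/-!
# S4171 (four involutions), orthogonal groups: subspaces of quadratic spaces

* `exists_T0` : a large nondegenerate subspace of the orthogonal complement of `U`;
* `exists_ab` : orthogonal vectors of prescribed norms;
* `exists_eig` : a large eigenspace of an involution.
-/

set_option autoImplicit false

namespace Cfsg.Agent.H900.Four

open QuadraticMap Module
open Cfsg.Agent.LieClassical.OrthCore Cfsg.Agent.H160.QDisc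

variable {F V : Type*} [Field F] [AddCommGroup V] [Module F V] [FiniteDimensional F V] {Q : QuadraticForm F V}

/-- nondegenerate subspace -/
def Nd (Q : QuadraticForm F V) (W : Submodule F V) : Prop := ∀ x ∈ W, (∀ y ∈ W, polar Q x y = 0) → x = 0

omit [FiniteDimensional F V] in
theorem nd_bot : Nd Q ⊥ := fun x hx _ => (Submodule.mem_bot F).1 hx

theorem isRefl_bilin (Q : QuadraticForm F V) : LinearMap.BilinForm.IsRefl (polarBilin Q) :=
  (isSymm_bilin Q).isRefl

/-- **a large nondegenerate subspace orthogonal to `U`** -/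
theorem exists_T0 (hQ : Nondeg Q) (U P : Submodule F V) (hPU : P ≤ U) (hP : Nd Q P) :
    ∃ T0 : Submodule F V, Nd Q T0 ∧ (∀ x ∈ T0, ∀ u ∈ U, polar Q u x = 0) ∧
      finrank F V + finrank F P ≤ finrank F T0 + 2 * finrank F U := by
  have hn := nondeg_bilin hQ
  have hr := isRefl_bilin Q
  let T : Submodule F V := LinearMap.BilinForm.orthogonal (polarBilin Q) U
  have hT : ∀ x, x ∈ T ↔ ∀ u ∈ U, polar Q u x = 0 := fun x => Iff.rfl
  have hTT : LinearMap.BilinForm.orthogonal (polarBilin Q) T = U := LinearMap.BilinForm.orthogonal_orthogonal hn hr U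
  have hfT : finrank F T = finrank F V - finrank F U := LinearMap.BilinForm.finrank_orthogonal hn U
  obtain ⟨C, hC⟩ := Submodule.exists_isCompl (T ⊓ U)
  have hsum : (T ⊓ U) ⊔ (T ⊓ C) = T := by
    rw [inf_comm T C, ← sup_inf_assoc_of_le C (inf_le_left : T ⊓ U ≤ T), hC.sup_eq_top, top_inf_eq]
  have hinf : (T ⊓ U) ⊓ (T ⊓ C) = ⊥ := by
    rw [eq_bot_iff, ← hC.inf_eq_bot]
    exact inf_le_inf_left _ inf_le_right
  refine ⟨T ⊓ C, ?_, fun x hx u hu => (hT x).1 hx.1 u hu, ?_⟩
  · intro x hx hxy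
    have h1 : x ∈ U := by
      rw [← hTT]
      intro t ht
      have ht' : t ∈ T := ht
      rw [← hsum] at ht'
      obtain ⟨r, hr', y, hy, rfl⟩ := Submodule.mem_sup.1 ht'
      show polar Q (r + y) x = 0
      rw [polar_add_left, (hT x).1 hx.1 r hr'.2, polar_comm Q y x, hxy y hy, add_zero]
    have h2 : x ∈ (T ⊓ U) ⊓ (T ⊓ C) := ⟨⟨hx.1, h1⟩, hx⟩
    rwa [hinf, Submodule.mem_bot] at h2
  · have h1 : (T ⊓ U) ⊓ P = ⊥ := by
      rw [eq_bot_iff]
      rintro x ⟨hx1, hx2⟩
      rw [Submodule.mem_bot]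
      refine hP x hx2 fun y hy => ?_
      rw [polar_comm]
      exact (hT x).1 hx1.1 y (hPU hy)
    have h2 := Submodule.finrank_sup_add_finrank_inf_eq (T ⊓ U) P
    rw [h1, finrank_bot, add_zero] at h2
    have h3 : finrank F ((T ⊓ U) ⊔ P : Submodule F V) ≤ finrank F U :=
      Submodule.finrank_mono (sup_le inf_le_right hPU)
    have h4 := Submodule.finrank_sup_add_finrank_inf_eq (T ⊓ U) (T ⊓ C)
    rw [hinf, finrank_bot, add_zero, hsum] at h4
    have h5 : finrank F U ≤ finrank F V := Submodule.finrank_le U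
    omega

theorem exists_value_nd [Finite F] {W : Submodule F V} (hW : Nd Q W) (h2 : 2 ≤ finrank F W) (c : F) :
    ∃ x ∈ W, Q x = c := by
  have hn : Nondeg (Q.comp W.subtype) := by
    intro x hx
    exact Subtype.ext (hW x x.2 fun y hy => hx ⟨y, hy⟩)
  obtain ⟨x, hx⟩ := Cfsg.Agent.H749.exists_value hn h2 c
  exact ⟨x, x.2, hx⟩

/-- orthogonal vectors of prescribed norms -/
theorem exists_ab [Finite F] (h2F : (2 : F) ≠ 0) {W : Submodule F V} (hW : Nd Q W) (h3 : 3 ≤ finrank F W) {α : F}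
    (hα : α ≠ 0) (β : F) : ∃ a ∈ W, ∃ b ∈ W, Q a = α ∧ Q b = β ∧ polar Q a b = 0 := by
  obtain ⟨a, ha, haα⟩ := exists_value_nd hW (by omega) α
  have haa : polar Q a a ≠ 0 := by
    rw [polar_self', haα]
    exact mul_ne_zero h2F hα
  let f : V →ₗ[F] F := polarBilin Q a
  let W' : Submodule F V := W ⊓ LinearMap.ker f
  have hW'm : ∀ x, x ∈ W' ↔ x ∈ W ∧ polar Q a x = 0 := fun x => Iff.rfl
  have hW' : Nd Q W' := by
    intro x hx hxy
    rw [hW'm] at hx
    refine hW x hx.1 fun y hy => ?_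
    have h1 : y - (polar Q a y * (polar Q a a)⁻¹) • a ∈ W' := by
      rw [hW'm]
      refine ⟨W.sub_mem hy (W.smul_mem _ ha), ?_⟩
      rw [polar_sub_right, polar_smul_right, smul_eq_mul, mul_assoc, inv_mul_cancel₀ haa, mul_one, sub_self]
    have h2 := hxy _ h1
    rw [polar_sub_right, polar_smul_right, polar_comm Q x a, hx.2, smul_zero, sub_zero] at h2
    exact h2
  have hd : 2 ≤ finrank F W' := by
    have h1 := Submodule.finrank_sup_add_finrank_inf_eq W (LinearMap.ker f)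
    have h2 := LinearMap.finrank_range_add_finrank_ker f
    have h3' : finrank F (LinearMap.range f) ≤ 1 := by
      have := Submodule.finrank_le (LinearMap.range f)
      rwa [finrank_self] at this
    have h4 : finrank F (W ⊔ LinearMap.ker f : Submodule F V) ≤ finrank F V := Submodule.finrank_le _
    have h5 : finrank F W' = finrank F (W ⊓ LinearMap.ker f : Submodule F V) := rfl
    omega
  obtain ⟨b, hb, hbβ⟩ := exists_value_nd hW' hd β
  exact ⟨a, ha, b, hb.1, haα, hbβ, hb.2⟩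

/-- a large eigenspace of an involution -/
theorem exists_eig (h2 : (2 : F) ≠ 0) (hQ : Nondeg Q) {s : V ≃ₗ[F] V} (hs : s ∈ O Q) (hss : s * s = 1) :
    ∃ (σ : F) (W : Submodule F V), (σ = 1 ∨ σ = -1) ∧ Nd Q W ∧ (∀ w ∈ W, s w = σ • w) ∧
      finrank F V ≤ 2 * finrank F W := by
  have hs' : ∀ x, s (s x) = x := fun x => congrArg (fun g : V ≃ₗ[F] V => g x) hss
  let A : Submodule F V := LinearMap.ker ((s : V →ₗ[F] V) - LinearMap.id)
  let B : Submodule F V := LinearMap.ker ((s : V →ₗ[F] V) + LinearMap.id)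
  have hA : ∀ x, x ∈ A ↔ s x = x := by
    intro x
    rw [LinearMap.mem_ker, LinearMap.sub_apply, sub_eq_zero]
    rfl
  have hB : ∀ x, x ∈ B ↔ s x = -x := by
    intro x
    rw [LinearMap.mem_ker, LinearMap.add_apply, ← eq_neg_iff_add_eq_zero]
    rfl
  have hsup : A ⊔ B = ⊤ := by
    rw [eq_top_iff]
    intro x _
    have e : x = (2 : F)⁻¹ • (x + s x) + (2 : F)⁻¹ • (x - s x) := by
      rw [← smul_add, add_add_sub_cancel, ← two_smul F x, smul_smul, inv_mul_cancel₀ h2, one_smul]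
    rw [e]
    refine Submodule.add_mem_sup (A.smul_mem _ ((hA _).2 ?_)) (B.smul_mem _ ((hB _).2 ?_))
    · rw [map_add, hs', add_comm]
    · rw [map_sub, hs', neg_sub]
  have hAB : ∀ x ∈ A, ∀ y ∈ B, polar Q x y = 0 := by
    intro x hx y hy
    have h1 := polar_map hs x y
    rw [(hA x).1 hx, (hB y).1 hy, polar_neg_right] at h1
    have h3 : (2 : F) * polar Q x y = 0 := by linear_combination -h1
    exact (mul_eq_zero.1 h3).resolve_left h2
  have hdim := Submodule.finrank_add_le_finrank_add_finrank A B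
  rw [hsup, finrank_top] at hdim
  have key : ∀ (C D : Submodule F V), C ⊔ D = ⊤ → (∀ x ∈ C, ∀ y ∈ D, polar Q x y = 0) → Nd Q C := by
    intro C D hCD h x hx hxy
    refine hQ x fun y => ?_
    have hy : y ∈ C ⊔ D := by rw [hCD]; trivial
    obtain ⟨c, hc, d, hd, rfl⟩ := Submodule.mem_sup.1 hy
    rw [polar_add_right, hxy c hc, h x hx d hd, add_zero]
  by_cases h : finrank F B ≤ finrank F A
  · exact ⟨1, A, Or.inl rfl, key A B hsup hAB, fun w hw => by rw [(hA w).1 hw, one_smul], by omega⟩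
  · refine ⟨-1, B, Or.inr rfl, key B A (by rw [sup_comm]; exact hsup) (fun x hx y hy => ?_), fun w hw => ?_, by omega⟩
    · rw [polar_comm]
      exact hAB y hy x hx
    · rw [(hB w).1 hw, neg_smul, one_smul]

/-- **the four involutions**: `g = s1 s2` with involutions outside `N`, corrected by commuting involutions -/
theorem combine {G : Type*} [Group G] (N : Subgroup G) {s1 s2 x1 x2 x3 : G} (h1 : s1 * s1 = 1) (h2 : s2 * s2 = 1)
    (k1 : x1 * x1 = 1) (k2 : x2 * x2 = 1) (k3 : x3 * x3 = 1) (c1 : s1 * x1 = x1 * s1) (c2 : s2 * x2 = x2 * s2)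
    (c3 : x3 * x1 = x1 * x3) (c4 : x3 * x2 = x2 * x3) (n1 : s1 * x1 ∈ N) (n2 : x1 * x3 ∈ N) (n3 : x3 * x2 ∈ N)
    (n4 : x2 * s2 ∈ N) : ∃ t1 ∈ N, ∃ t2 ∈ N, ∃ t3 ∈ N, ∃ t4 ∈ N, t1 * t1 = 1 ∧ t2 * t2 = 1 ∧ t3 * t3 = 1 ∧
      t4 * t4 = 1 ∧ s1 * s2 = t1 * t2 * t3 * t4 := by
  have key : ∀ a b : G, a * a = 1 → b * b = 1 → a * b = b * a → (a * b) * (a * b) = 1 := by
    intro a b ha hb hab
    calc (a * b) * (a * b) = a * (b * a) * b := by group
      _ = (a * a) * (b * b) := by rw [← hab]; group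
      _ = 1 := by rw [ha, hb, one_mul]
  refine ⟨s1 * x1, n1, x1 * x3, n2, x3 * x2, n3, x2 * s2, n4, key _ _ h1 k1 c1, key _ _ k1 k3 c3.symm,
    key _ _ k3 k2 c4, key _ _ k2 h2 c2.symm, ?_⟩
  calc s1 * s2 = s1 * 1 * 1 * 1 * s2 := by group
    _ = s1 * (x1 * x1) * (x3 * x3) * (x2 * x2) * s2 := by rw [k1, k2, k3]
    _ = s1 * x1 * (x1 * x3) * (x3 * x2) * (x2 * s2) := by group

end Cfsg.Agent.H900.Four
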