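import Mathlib
import Cfsg.Agent.H900.Four.Sub
import Cfsg.Agent.H721.SR.DecF
import Cfsg.Agent.H575.SR.Pieces
import Cfsg.Agent.H160.QFinal

/-!
# S4171 (four involutions), orthogonal groups, `q` odd

* `four_odd` : every element of `Ω(Q)`, `dim ≥ 7`, is a product of four elements of `Ω(Q)` with square one.
-/

set_option autoImplicit false

namespace Cfsg.Agent.H900.Four

open QuadraticMap Module
open Cfsg.Agent.LieClassical.OrthCore Cfsg.Agent.H160.QSpin Cfsg.Agent.H160.QDisc Cfsg.Agent.H721.SR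

variable {F V : Type*} [Field F] [AddCommGroup V] [Module F V] [FiniteDimensional F V] [Finite V]
  {Q : QuadraticForm F V}

/-- the class (determinant, spinor sign) -/
noncomputable def chi (Q : QuadraticForm F V) : O Q →* Fˣ × ℤˣ :=
  (LinearEquiv.det.comp (O Q).subtype).prod (spin Q)

theorem chi_apply (g : O Q) : chi Q g = (LinearEquiv.det (g : V ≃ₗ[F] V), spin Q g) := rfl

theorem mem_ker_chi {g : V ≃ₗ[F] V} (hg : g ∈ O Q) : (⟨g, hg⟩ : O Q) ∈ (chi Q).ker ↔ El Q 1 g := by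
  rw [MonoidHom.mem_ker, chi_apply, Prod.mk_eq_one]
  exact ⟨fun h => ⟨hg, h.1, h.2⟩, fun ⟨_, h1, h2⟩ => ⟨h1, h2⟩⟩

/-- reflections with a given spinor sign -/
theorem exists_rval [Finite F] (h2 : (2 : F) ≠ 0) (σ : ℤˣ) : ∃ α : F, α ≠ 0 ∧
    ∀ (v : V) (hv : Q v ≠ 0), Q v = α → chi Q ⟨refl Q v hv, refl_mem_O hv⟩ = (-1, σ) := by
  classical
  let _ := Fintype.ofFinite F
  obtain ⟨α, hα, h⟩ := exists_qc (F := F) h2 (d := -(σ : ℤ)) (by
    rcases Int.units_eq_one_or σ with rfl | rfl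
    · right; rfl
    · left; rfl)
  refine ⟨α, hα, fun v hv hvα => ?_⟩
  rw [chi_apply]
  refine Prod.ext (det_refl hv) (Units.ext ?_)
  rw [spin_refl_int h2 hv, hvα, h, neg_neg]

omit [FiniteDimensional F V] [Finite V] in
theorem refl_eig {s : V ≃ₗ[F] V} (hs : s ∈ O Q) {τ : F} (hτ : τ = 1 ∨ τ = -1) {a : V} (ha : Q a ≠ 0)
    (h : s a = τ • a) : s * refl Q a ha = refl Q a ha * s := by
  have h1 : Q (s a) ≠ 0 := by rw [mem_O.1 hs]; exact ha
  have h2 : refl Q (s a) h1 = refl Q a ha := by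
    ext x
    rw [refl_apply, refl_apply, mem_O.1 hs]
    congr 1
    rw [h, polar_smul_left, smul_smul]
    congr 1
    rcases hτ with rfl | rfl
    · simp
    · simp
  have h3 := refl_conj hs ha h1
  rw [h2] at h3
  calc s * refl Q a ha = (s * refl Q a ha * s⁻¹) * s := by group
    _ = refl Q a ha * s := by rw [h3]

omit [Finite V] in
/-- involutions of determinant `-1` -/
theorem four_neg [Finite F] [Finite V] (h2 : (2 : F) ≠ 0) (hQ : Nondeg Q) (hn : 7 ≤ finrank F V) {s1 s2 : O Q} (h1 : s1 * s1 = 1)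
    (h2' : s2 * s2 = 1) {σ : ℤˣ} (e1 : chi Q s1 = (-1, σ)) (e2 : chi Q s2 = (-1, σ)) :
    ∃ t1 ∈ (chi Q).ker, ∃ t2 ∈ (chi Q).ker, ∃ t3 ∈ (chi Q).ker, ∃ t4 ∈ (chi Q).ker, t1 * t1 = 1 ∧ t2 * t2 = 1 ∧
      t3 * t3 = 1 ∧ t4 * t4 = 1 ∧ s1 * s2 = t1 * t2 * t3 * t4 := by
  obtain ⟨α, hα, hr⟩ := exists_rval (Q := Q) h2 σ
  have one : ∀ s : O Q, s * s = 1 → ∃ (a : V) (ha : Q a ≠ 0), Q a = α ∧
      s * ⟨refl Q a ha, refl_mem_O ha⟩ = ⟨refl Q a ha, refl_mem_O ha⟩ * s := by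
    intro s hs
    obtain ⟨τ, W, hτ, hW, hWs, hWd⟩ := exists_eig h2 hQ s.2 (congrArg Subtype.val hs)
    obtain ⟨a, haW, ha⟩ := exists_value_nd hW (by omega) α
    have ha0 : Q a ≠ 0 := by rw [ha]; exact hα
    exact ⟨a, ha0, ha, Subtype.ext (refl_eig s.2 hτ ha0 (hWs a haW))⟩
  obtain ⟨a1, ha1, hQ1, hc1⟩ := one s1 h1
  obtain ⟨a2, ha2, hQ2, hc2⟩ := one s2 h2'
  obtain ⟨T0, hT0, hT1, hTd⟩ := exists_T0 hQ (Submodule.span F (Set.range ![a1, a2])) ⊥ bot_le nd_bot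
  have hU : finrank F (Submodule.span F (Set.range ![a1, a2])) ≤ 2 := finrank_range_le_card ![a1, a2]
  rw [finrank_bot] at hTd
  obtain ⟨c, hcT, hc⟩ := exists_value_nd hT0 (by omega) α
  have hc0 : Q c ≠ 0 := by rw [hc]; exact hα
  have p1 : polar Q c a1 = 0 := by
    rw [polar_comm]; exact hT1 c hcT a1 (Submodule.subset_span ⟨0, rfl⟩)
  have p2 : polar Q c a2 = 0 := by
    rw [polar_comm]; exact hT1 c hcT a2 (Submodule.subset_span ⟨1, rfl⟩)
  have hsq : ((-1, σ) : Fˣ × ℤˣ) * (-1, σ) = 1 := by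
    rw [Prod.mk_mul_mk, Prod.mk_eq_one]
    exact ⟨by simp, Int.units_mul_self σ⟩
  refine combine (chi Q).ker (x1 := ⟨refl Q a1 ha1, refl_mem_O ha1⟩) (x2 := ⟨refl Q a2 ha2, refl_mem_O ha2⟩)
    (x3 := ⟨refl Q c hc0, refl_mem_O hc0⟩) h1 h2' (Subtype.ext (refl_mul_self ha1)) (Subtype.ext (refl_mul_self ha2))
    (Subtype.ext (refl_mul_self hc0)) hc1 hc2 (Subtype.ext (refl_comm hc0 ha1 p1)) (Subtype.ext (refl_comm hc0 ha2 p2))
    ?_ ?_ ?_ ?_
  · rw [MonoidHom.mem_ker, map_mul, e1, hr a1 ha1 hQ1, hsq]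
  · rw [MonoidHom.mem_ker, map_mul, hr a1 ha1 hQ1, hr c hc0 hc, hsq]
  · rw [MonoidHom.mem_ker, map_mul, hr c hc0 hc, hr a2 ha2 hQ2, hsq]
  · rw [MonoidHom.mem_ker, map_mul, hr a2 ha2 hQ2, e2, hsq]

omit [Finite V] in
/-- orthogonal nonsingular vectors span a nondegenerate plane -/
theorem nd_pair (h2 : (2 : F) ≠ 0) {a b : V} (ha : Q a ≠ 0) (hb : Q b ≠ 0) (hab : polar Q a b = 0) :
    Nd Q (Submodule.span F (Set.range ![a, b])) ∧ finrank F (Submodule.span F (Set.range ![a, b])) = 2 := by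
  have haa : polar Q a a ≠ 0 := by rw [polar_self']; exact mul_ne_zero h2 ha
  have hbb : polar Q b b ≠ 0 := by rw [polar_self']; exact mul_ne_zero h2 hb
  have hba : polar Q b a = 0 := by rw [polar_comm]; exact hab
  have key : ∀ s t : F, polar Q (s • a + t • b) a = 0 → polar Q (s • a + t • b) b = 0 → s = 0 ∧ t = 0 := by
    intro s t h1 h2
    rw [polar_add_left, polar_smul_left, polar_smul_left, hba, smul_zero, add_zero, smul_eq_mul] at h1
    rw [polar_add_left, polar_smul_left, polar_smul_left, hab, smul_zero, zero_add, smul_eq_mul] at h2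
    exact ⟨(mul_eq_zero.1 h1).resolve_right haa, (mul_eq_zero.1 h2).resolve_right hbb⟩
  constructor
  · intro x hx hxy
    have hx' : x ∈ Submodule.span F ({a, b} : Set V) := by
      rwa [Matrix.range_cons, Matrix.range_cons, Matrix.range_empty, Set.union_empty] at hx
    obtain ⟨s, t, rfl⟩ := Submodule.mem_span_pair.1 hx'
    obtain ⟨h3, h4⟩ := key s t (hxy a (Submodule.subset_span ⟨0, rfl⟩)) (hxy b (Submodule.subset_span ⟨1, rfl⟩))
    rw [h3, h4, zero_smul, zero_smul, add_zero]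
  · have hli : LinearIndependent F ![a, b] := by
      rw [LinearIndependent.pair_iff]
      intro s t h
      exact key s t (by rw [h, polar_zero_left]) (by rw [h, polar_zero_left])
    rw [finrank_span_eq_card hli, Fintype.card_fin]

/-- involutions of determinant `1` and spinor sign `-1` -/
theorem four_pos [Finite F] (h2 : (2 : F) ≠ 0) (hQ : Nondeg Q) (hn : 9 ≤ finrank F V) {s1 s2 : O Q}
    (h1 : s1 * s1 = 1) (h2' : s2 * s2 = 1) (e1 : chi Q s1 = (1, -1)) (e2 : chi Q s2 = (1, -1)) :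
    ∃ t1 ∈ (chi Q).ker, ∃ t2 ∈ (chi Q).ker, ∃ t3 ∈ (chi Q).ker, ∃ t4 ∈ (chi Q).ker, t1 * t1 = 1 ∧ t2 * t2 = 1 ∧
      t3 * t3 = 1 ∧ t4 * t4 = 1 ∧ s1 * s2 = t1 * t2 * t3 * t4 := by
  obtain ⟨α, hα, hr⟩ := exists_rval (Q := Q) h2 1
  obtain ⟨β, hβ, hr'⟩ := exists_rval (Q := Q) h2 (-1)
  let R : ∀ a : V, Q a ≠ 0 → O Q := fun a ha => ⟨refl Q a ha, refl_mem_O ha⟩
  have hRR : ∀ a ha, R a ha * R a ha = 1 := fun a ha => Subtype.ext (refl_mul_self ha)
  have hRc : ∀ a ha b hb, polar Q a b = 0 → R a ha * R b hb = R b hb * R a ha :=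
    fun a ha b hb h => Subtype.ext (refl_comm ha hb h)
  have hX : ∀ a b : V, ∀ ha : Q a ≠ 0, ∀ hb : Q b ≠ 0, Q a = α → Q b = β → chi Q (R a ha * R b hb) = (1, -1) := by
    intro a b ha hb hQa hQb
    rw [map_mul, hr a ha hQa, hr' b hb hQb, Prod.mk_mul_mk]
    simp
  have hXX : ∀ a ha b hb, polar Q a b = 0 → (R a ha * R b hb) * (R a ha * R b hb) = 1 := by
    intro a ha b hb h
    calc (R a ha * R b hb) * (R a ha * R b hb) = R a ha * (R b hb * R a ha) * R b hb := by group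
      _ = (R a ha * R a ha) * (R b hb * R b hb) := by rw [← hRc a ha b hb h]; group
      _ = 1 := by rw [hRR, hRR, one_mul]
  have one : ∀ s : O Q, s * s = 1 → ∃ (a b : V) (ha : Q a ≠ 0) (hb : Q b ≠ 0), Q a = α ∧ Q b = β ∧ polar Q a b = 0 ∧
      s * (R a ha * R b hb) = (R a ha * R b hb) * s := by
    intro s hs
    obtain ⟨τ, W, hτ, hW, hWs, hWd⟩ := exists_eig h2 hQ s.2 (congrArg Subtype.val hs)
    obtain ⟨a, haW, b, hbW, ha, hb, hab⟩ := exists_ab h2 hW (by omega) hα β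
    have ha0 : Q a ≠ 0 := by rw [ha]; exact hα
    have hb0 : Q b ≠ 0 := by rw [hb]; exact hβ
    have k1 : s * R a ha0 = R a ha0 * s := Subtype.ext (refl_eig s.2 hτ ha0 (hWs a haW))
    have k2 : s * R b hb0 = R b hb0 * s := Subtype.ext (refl_eig s.2 hτ hb0 (hWs b hbW))
    exact ⟨a, b, ha0, hb0, ha, hb, hab, by rw [← mul_assoc, k1, mul_assoc, k2, mul_assoc]⟩
  obtain ⟨a1, b1, ha1, hb1, hQa1, hQb1, hab1, hc1⟩ := one s1 h1
  obtain ⟨a2, b2, ha2, hb2, hQa2, hQb2, hab2, hc2⟩ := one s2 h2'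
  obtain ⟨hP, hPd⟩ := nd_pair h2 ha1 hb1 hab1
  have hPU : Submodule.span F (Set.range ![a1, b1]) ≤ Submodule.span F (Set.range ![a1, b1, a2, b2]) := by
    rw [Submodule.span_le]
    rintro _ ⟨i, rfl⟩
    fin_cases i
    · exact Submodule.subset_span ⟨0, rfl⟩
    · exact Submodule.subset_span ⟨1, rfl⟩
  obtain ⟨T0, hT0, hT1, hTd⟩ := exists_T0 hQ _ _ hPU hP
  have hU : finrank F (Submodule.span F (Set.range ![a1, b1, a2, b2])) ≤ 4 := finrank_range_le_card ![a1, b1, a2, b2]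
  obtain ⟨c, hcT, d, hdT, hc, hd, hcd⟩ := exists_ab h2 hT0 (by omega) hα β
  have hc0 : Q c ≠ 0 := by rw [hc]; exact hα
  have hd0 : Q d ≠ 0 := by rw [hd]; exact hβ
  have hp : ∀ i, polar Q c (![a1, b1, a2, b2] i) = 0 ∧ polar Q d (![a1, b1, a2, b2] i) = 0 := by
    intro i
    rw [polar_comm Q c, polar_comm Q d]
    exact ⟨hT1 c hcT _ (Submodule.subset_span ⟨i, rfl⟩), hT1 d hdT _ (Submodule.subset_span ⟨i, rfl⟩)⟩
  have comm4 : ∀ a ha b hb c hc d hd, polar Q c a = 0 → polar Q c b = 0 → polar Q d a = 0 → polar Q d b = 0 →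
      (R c hc * R d hd) * (R a ha * R b hb) = (R a ha * R b hb) * (R c hc * R d hd) := by
    intro a ha b hb c hc d hd p1 p2 p3 p4
    have e1 := hRc c hc a ha p1
    have e2 := hRc c hc b hb p2
    have e3 := hRc d hd a ha p3
    have e4 := hRc d hd b hb p4
    calc (R c hc * R d hd) * (R a ha * R b hb) = R c hc * (R d hd * R a ha) * R b hb := by group
      _ = (R c hc * R a ha) * (R d hd * R b hb) := by rw [e3]; group
      _ = R a ha * (R c hc * R b hb) * R d hd := by rw [e1, e4]; group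
      _ = (R a ha * R b hb) * (R c hc * R d hd) := by rw [e2]; group
  have hsq : ((1, -1) : Fˣ × ℤˣ) * (1, -1) = 1 := by
    rw [Prod.mk_mul_mk, Prod.mk_eq_one]
    exact ⟨by simp, by simp⟩
  have g1 := hX a1 b1 ha1 hb1 hQa1 hQb1
  have g2 := hX a2 b2 ha2 hb2 hQa2 hQb2
  have g3 := hX c d hc0 hd0 hc hd
  refine combine (chi Q).ker (x1 := R a1 ha1 * R b1 hb1) (x2 := R a2 ha2 * R b2 hb2) (x3 := R c hc0 * R d hd0) h1 h2'
    (hXX _ _ _ _ hab1) (hXX _ _ _ _ hab2) (hXX _ _ _ _ hcd) hc1 hc2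
    (comm4 _ _ _ _ _ _ _ _ (hp 0).1 (hp 1).1 (hp 0).2 (hp 1).2)
    (comm4 _ _ _ _ _ _ _ _ (hp 2).1 (hp 3).1 (hp 2).2 (hp 3).2) ?_ ?_ ?_ ?_
  · rw [MonoidHom.mem_ker, map_mul, e1, g1, hsq]
  · rw [MonoidHom.mem_ker, map_mul, g1, g3, hsq]
  · rw [MonoidHom.mem_ker, map_mul, g3, g2, hsq]
  · rw [MonoidHom.mem_ker, map_mul, g2, e2, hsq]

/-- product of four elements of the kernel with square one -/
def P4 (Q : QuadraticForm F V) (g : O Q) : Prop :=
  ∃ t1 ∈ (chi Q).ker, ∃ t2 ∈ (chi Q).ker, ∃ t3 ∈ (chi Q).ker, ∃ t4 ∈ (chi Q).ker, t1 * t1 = 1 ∧ t2 * t2 = 1 ∧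
      t3 * t3 = 1 ∧ t4 * t4 = 1 ∧ g = t1 * t2 * t3 * t4

theorem P4.of_two {s1 s2 : O Q} (h1 : s1 * s1 = 1) (h2 : s2 * s2 = 1) (e1 : chi Q s1 = 1) (e2 : chi Q s2 = 1) :
    P4 Q (s1 * s2) :=
  ⟨s1, e1, s2, e2, 1, one_mem _, 1, one_mem _, h1, h2, one_mul 1, one_mul 1, by rw [mul_one, mul_one]⟩

end Cfsg.Agent.H900.Four

namespace Cfsg.Agent.H900.Four

open QuadraticMap Module
open Cfsg.Agent.LieClassical.OrthCore Cfsg.Agent.H160.QSpin Cfsg.Agent.H160.QDisc Cfsg.Agent.H721.SR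

/-- **`Ω(Q)`, `q` odd, dimension at least seven: every element is a product of four elements with square one** -/
theorem p4_odd {F V : Type} [Field F] [Finite F] [AddCommGroup V] [Module F V] [FiniteDimensional F V] [Finite V]
    {Q : QuadraticForm F V} (h2 : (2 : F) ≠ 0) (hQ : Nondeg Q) (hn : 7 ≤ finrank F V) (g : O Q) (hg : chi Q g = 1) :
    P4 Q g := by
  classical
  let _ := Fintype.ofFinite F
  by_cases h8 : finrank F V = 8
  · have hchar : ringChar F ≠ 2 := by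
      intro h
      apply h2
      have := ringChar.spec F 2
      rw [h] at this
      exact_mod_cast this.2 dvd_rfl
    have ho : Odd (Fintype.card F) := Nat.odd_iff.2 (FiniteField.odd_card_of_char_ne_two hchar)
    obtain ⟨h, hO, hh, hi, hdet, hs⟩ := Cfsg.Agent.H721.SRDec.decAll F ho V Q hQ (Or.inr (by rw [h8]; norm_num))
      (Or.inr (Or.inr (Or.inl h8))) g ((mem_ker_chi g.2).1 hg)
    have h1 : (⟨h, hO⟩ : O Q) * ⟨h, hO⟩ = 1 := Subtype.ext hh
    have hi' : (⟨h, hO⟩ : O Q) * g * (⟨h, hO⟩ : O Q)⁻¹ = g⁻¹ := Subtype.ext hi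
    have hc : chi Q ⟨h, hO⟩ = 1 := Prod.ext hdet hs
    have hgs : g = (⟨h, hO⟩ : O Q) * ((⟨h, hO⟩ : O Q) * g) := by rw [← mul_assoc, h1, one_mul]
    rw [hgs]
    refine P4.of_two h1 ?_ hc (by rw [map_mul, hc, hg, mul_one])
    generalize (⟨h, hO⟩ : O Q) = s at h1 hi'
    calc (s * g) * (s * g) = (s * g * s⁻¹) * (s * s) * g := by group
      _ = 1 := by rw [hi', h1, mul_one, inv_mul_cancel]
  obtain ⟨h, hh, hi, hiso⟩ := Cfsg.Agent.H575.SR.isVert_all (Cfsg.Agent.H853.SR.st_of hQ g.2) (Or.inl h2)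
  have hO : h ∈ O Q := by
    intro x
    apply mul_left_cancel₀ h2
    rw [two_mul_Q, two_mul_Q, hiso, one_mul]
  let s1 : O Q := ⟨h, hO⟩
  have h1 : s1 * s1 = 1 := Subtype.ext hh
  have hinv : s1⁻¹ = s1 := inv_eq_of_mul_eq_one_left h1
  have hi' : s1 * g * s1⁻¹ = g⁻¹ := Subtype.ext hi
  have h2' : (s1 * g) * (s1 * g) = 1 := by
    calc (s1 * g) * (s1 * g) = (s1 * g * s1⁻¹) * (s1 * s1) * g := by group
      _ = 1 := by rw [hi', h1, mul_one, inv_mul_cancel]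
  have hgs : g = s1 * (s1 * g) := by rw [← mul_assoc, h1, one_mul]
  have hchi2 : chi Q (s1 * g) = chi Q s1 := by rw [map_mul, hg, mul_one]
  rw [hgs]
  generalize s1 * g = s2 at h2' hchi2
  obtain ⟨δ, σ, hc⟩ : ∃ δ σ, chi Q s1 = (δ, σ) := ⟨_, _, rfl⟩
  rw [hc] at hchi2
  have hδ : δ * δ = 1 := by
    have := congrArg (fun k => (chi Q k).1) h1
    simp only [map_mul, hc, map_one] at this
    exact this
  have hδ' : δ = 1 ∨ δ = -1 := by
    have h3 : (δ : F) * δ = 1 := by rw [← Units.val_mul, hδ, Units.val_one]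
    rcases mul_self_eq_one_iff.1 h3 with h | h
    · left; exact Units.ext h
    · right; exact Units.ext (by rw [h]; rfl)
  rcases hδ' with rfl | rfl
  · rcases Int.units_eq_one_or σ with rfl | rfl
    · exact P4.of_two h1 h2' hc hchi2
    · rcases Nat.even_or_odd (finrank F V) with he | ho
      · exact four_pos h2 hQ (by obtain ⟨k, hk⟩ := he; omega) h1 h2' hc hchi2
      · let z : O Q := ⟨LinearEquiv.neg F, neg_mem_O Q⟩
        have hz : ∀ s : O Q, z * s = s * z := fun s => Subtype.ext (by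
          ext x
          show -((s : V ≃ₗ[F] V) x) = (s : V ≃ₗ[F] V) (-x)
          rw [map_neg])
        have hzz : z * z = 1 := Subtype.ext (by
          ext x
          exact neg_neg x)
        have hcz : ∃ μ, chi Q z = (-1, μ) := by
          refine ⟨(chi Q z).2, Prod.ext ?_ rfl⟩
          apply Units.ext
          show ((LinearEquiv.det (LinearEquiv.neg F : V ≃ₗ[F] V) : Fˣ) : F) = _
          rw [LinearEquiv.coe_det]
          have h : ((LinearEquiv.neg F : V ≃ₗ[F] V) : V →ₗ[F] V) = (-1 : F) • LinearMap.id := by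
            ext x
            simp
          rw [h, LinearMap.det_smul, LinearMap.det_id, ho.neg_one_pow]
          simp
        obtain ⟨μ, hμ⟩ := hcz
        have k1 : (s1 * z) * (s1 * z) = 1 := by
          calc (s1 * z) * (s1 * z) = s1 * (z * s1) * z := by group
            _ = (s1 * s1) * (z * z) := by rw [hz]; group
            _ = 1 := by rw [h1, hzz, one_mul]
        have k2 : (z * s2) * (z * s2) = 1 := by
          calc (z * s2) * (z * s2) = z * (s2 * z) * s2 := by group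
            _ = (z * z) * (s2 * s2) := by rw [← hz]; group
            _ = 1 := by rw [h2', hzz, one_mul]
        have e : s1 * s2 = (s1 * z) * (z * s2) := by
          calc s1 * s2 = s1 * 1 * s2 := by group
            _ = (s1 * z) * (z * s2) := by rw [← hzz]; group
        rw [e]
        refine four_neg h2 hQ hn k1 k2 (σ := -μ) ?_ ?_
        · rw [map_mul, hc, hμ, Prod.mk_mul_mk]; simp
        · rw [map_mul, hchi2, hμ, Prod.mk_mul_mk]; simp
  · exact four_neg h2 hQ hn h1 h2' hc hchi2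

end Cfsg.Agent.H900.Four
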